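import Mathlib
import Cfsg.Agent.H775.PU.Bound_m3
import Cfsg.Agent.H744.EssRad
import Cfsg.Agent.H783.ChainStab
import Cfsg.Agent.FastGrp
import Cfsg.Agent.Prune
set_option linter.all false

section
prune_inst 0x7f00000000000000000000000000000000000000000000000000000000000000000000000000000000000000000000000000000000000000000000000000000000000000000000000000000000000000003fffffffffffffffffffffffffffbeffbdffffffff

-- part: H732/PU/Chain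
section
set_option linter.all false
open scoped Cfsg.Agent.FastGrp

/-!
# S5258, (G1): stabilizers of a chain of invariant subgroups lie in `E` (helper732)
-/

set_option autoImplicit false

namespace Cfsg.Agent.H732.PU

open Cfsg Cfsg.FusionSystem Cfsg.Agent.H756.PU

universe u

variable {Ω : Type*} [Group Ω]

/-- `γ` acts trivially on `A / B` -/
def Triv {E : Subgroup Ω} (A B : Subgroup Ω) (γ : MulAut E) : Prop :=
  ∀ e : E, (e : Ω) ∈ A → ((γ e : E) : Ω) * (e : Ω)⁻¹ ∈ B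

theorem triv_one {E : Subgroup Ω} (A B : Subgroup Ω) : Triv A B (1 : MulAut E) := fun e _ => by
  rw [MulAut.one_apply, mul_inv_cancel]
  exact B.one_mem

theorem Triv.mul {E A B : Subgroup Ω} (hBA : B ≤ A) {γ δ : MulAut E} (hγ : Triv A B γ) (hδ : Triv A B δ) :
    Triv A B (γ * δ) := by
  intro e he
  have h1 := hδ e he
  have h2 : ((δ e : E) : Ω) ∈ A := by
    have := A.mul_mem (hBA h1) he
    rwa [inv_mul_cancel_right] at this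
  have h3 := B.mul_mem (hγ (δ e) h2) h1
  rw [mul_assoc, inv_mul_cancel_left] at h3
  exact h3

theorem Triv.inv {E A B : Subgroup Ω} {Γ : Subgroup (MulAut E)} (hA : Inv Γ A) {γ : MulAut E} (hg : γ ∈ Γ)
    (hγ : Triv A B γ) : Triv A B γ⁻¹ := by
  intro e he
  have h1 : ((γ⁻¹ e : E) : Ω) ∈ A := hA.2 _ (Γ.inv_mem hg) e he
  have h2 := B.inv_mem (hγ _ h1)
  rw [MulAut.apply_inv_self, mul_inv_rev, inv_inv] at h2
  exact h2

theorem Triv.conj {E A B : Subgroup Ω} {Γ : Subgroup (MulAut E)} (hA : Inv Γ A) (hB : Inv Γ B) {γ g : MulAut E}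
    (hg : g ∈ Γ) (hγ : Triv A B γ) : Triv A B (g * γ * g⁻¹) := by
  intro e he
  have h1 : ((g⁻¹ e : E) : Ω) ∈ A := hA.2 _ (Γ.inv_mem hg) e he
  have h2 := hγ _ h1
  have h3 := hB.2 g hg (γ (g⁻¹ e) * (g⁻¹ e)⁻¹) h2
  rw [map_mul, map_inv, MulAut.apply_inv_self] at h3
  exact h3

/-- `γ` fixes the elements of `A` -/
def Fx {E : Subgroup Ω} (A : Subgroup Ω) (γ : MulAut E) : Prop := ∀ e : E, (e : Ω) ∈ A → γ e = e

theorem fx_step {E A B : Subgroup Ω} {γ : MulAut E} (hF : Fx B γ) (hT : Triv A B γ) :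
    Fx A (γ ^ Nat.card B) := by
  intro e he
  set d : E := γ e * e⁻¹ with hd
  have hdB : (d : Ω) ∈ B := hT e he
  have hfd : γ d = d := hF d hdB
  have key : ∀ n : ℕ, (γ ^ n) e = d ^ n * e := by
    intro n
    induction n with
    | zero => simp
    | succ n ih =>
      rw [pow_succ', MulAut.mul_apply, ih, map_mul, map_pow, hfd, pow_succ]
      rw [show γ e = d * e by rw [hd, inv_mul_cancel_right]]
      simp only [mul_assoc]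
  rw [key]
  have h1 : (⟨(d : Ω), hdB⟩ : B) ^ Nat.card B = 1 := pow_card_eq_one'
  have h2 : d ^ Nat.card B = 1 := by
    apply Subtype.ext
    have h3 : (d : Ω) ^ Nat.card B = 1 := congrArg Subtype.val h1
    rw [SubmonoidClass.coe_pow, h3]
    rfl
  rw [h2, one_mul]

/-- **(G1)** -/
theorem stChain : StChain.{u} := by
  intro Ω _ S E p Γ h M1 M2 M3 i1 i2 i3 h12 h23 X hXS c3 c2 c1 c0 x hx
  have := h.fin
  have : Fact p.Prime := ⟨h.pp⟩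
  have iE : Inv Γ E := ⟨le_rfl, fun γ _ e _ => (γ e).2⟩
  have i0 : Inv Γ (⊥ : Subgroup Ω) := ⟨bot_le, fun γ _ e he => by
    have h1 : e = 1 := Subtype.ext (Subgroup.mem_bot.1 he)
    rw [h1, map_one]
    exact (⊥ : Subgroup Ω).one_mem⟩
  have hME : M3 ≤ E := i3.1
  -- the stabilizer of the chain
  let K : Subgroup (MulAut E) :=
    { carrier := {γ | γ ∈ Γ ∧ Triv E M3 γ ∧ Triv M3 M2 γ ∧ Triv M2 M1 γ ∧ Triv M1 ⊥ γ}
      one_mem' := ⟨Γ.one_mem, triv_one _ _, triv_one _ _, triv_one _ _, triv_one _ _⟩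
      mul_mem' := fun {a b} ha hb => ⟨Γ.mul_mem ha.1 hb.1, ha.2.1.mul hME hb.2.1, ha.2.2.1.mul h23 hb.2.2.1,
        ha.2.2.2.1.mul h12 hb.2.2.2.1, ha.2.2.2.2.mul bot_le hb.2.2.2.2⟩
      inv_mem' := fun {a} ha => ⟨Γ.inv_mem ha.1, ha.2.1.inv iE ha.1, ha.2.2.1.inv i3 ha.1, ha.2.2.2.1.inv i2 ha.1,
        ha.2.2.2.2.inv i1 ha.1⟩ }
  have hKΓ : K ≤ Γ := fun _ hγ => hγ.1
  have hKn : ∀ g ∈ Γ, ∀ γ ∈ K, g * γ * g⁻¹ ∈ K := fun g hg γ hγ =>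
    ⟨Γ.mul_mem (Γ.mul_mem hg hγ.1) (Γ.inv_mem hg), hγ.2.1.conj iE i3 hg, hγ.2.2.1.conj i3 i2 hg,
      hγ.2.2.2.1.conj i2 i1 hg, hγ.2.2.2.2.conj i1 i0 hg⟩
  have hpow : ∀ {M : Subgroup Ω}, M ≤ E → ∃ k, Nat.card M = p ^ k := by
    intro M hM
    have hMS : M ≤ S := hM.trans h.E_le
    have hfin : Finite M := Finite.of_injective _ (Subgroup.inclusion_injective hMS)
    exact (h.pgr.of_injective _ (Subgroup.inclusion_injective hMS)).exists_card_eq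
  have hKp : IsPGroup p K := by
    rintro ⟨γ, hγ⟩
    obtain ⟨k1, hk1⟩ := hpow i1.1
    obtain ⟨k2, hk2⟩ := hpow i2.1
    obtain ⟨k3, hk3⟩ := hpow i3.1
    have f1 : Fx M1 γ := fun e he => by
      have := Subgroup.mem_bot.1 (hγ.2.2.2.2 e he)
      exact Subtype.ext (mul_inv_eq_one.1 this)
    have f2 : Fx M2 (γ ^ Nat.card M1) := fx_step f1 hγ.2.2.2.1
    have g2 : γ ^ Nat.card M1 ∈ K := K.pow_mem hγ _
    have f3 : Fx M3 ((γ ^ Nat.card M1) ^ Nat.card M2) := fx_step f2 g2.2.2.1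
    have g3 : (γ ^ Nat.card M1) ^ Nat.card M2 ∈ K := K.pow_mem g2 _
    have f4 : Fx E (((γ ^ Nat.card M1) ^ Nat.card M2) ^ Nat.card M3) := fx_step f3 g3.2.1
    refine ⟨k1 + k2 + k3, Subtype.ext ?_⟩
    have h1 : γ ^ p ^ (k1 + k2 + k3) = ((γ ^ Nat.card M1) ^ Nat.card M2) ^ Nat.card M3 := by
      rw [← pow_mul, ← pow_mul, hk1, hk2, hk3, pow_add, pow_add, mul_assoc]
    change γ ^ p ^ (k1 + k2 + k3) = 1
    rw [h1]
    exact MulEquiv.ext fun e => f4 e e.2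
  -- `K ≤ Aut_S(E)`
  have hKS : K ≤ autInducedBy S E := by
    obtain ⟨g, hg, hs⟩ := h.syl K hKΓ hKp
    intro γ hγ
    have h1 := hKn _ (Γ.inv_mem hg) γ hγ
    have h2 := hs _ h1
    have h3 : g * (g⁻¹ * γ * g⁻¹⁻¹) * g⁻¹ = γ := by group
    rwa [h3] at h2
  -- `K ≤ Inn(E)`
  have hKI : K ≤ Inn E := by
    obtain ⟨H, hH, hne, hSH, -, hemb⟩ := h.spe
    obtain ⟨g, hgΓ, hgH⟩ := SetLike.exists_of_lt (lt_of_le_of_ne hH hne)
    intro γ hγ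
    refine hemb g hgΓ hgH γ (hSH (hKS hγ)) (hSH (hKS (hKn g hgΓ γ hγ))) ?_
    obtain ⟨k, hk⟩ := hKp ⟨γ, hγ⟩
    exact ⟨k, congrArg Subtype.val hk⟩
  -- conjugation by `x`
  have hnorm : ∀ y ∈ X, ∀ e : E, y * e * y⁻¹ ∈ E := by
    intro y hy e
    have h1 := E.mul_mem (hME (c3 y hy e e.2)) e.2
    rwa [inv_mul_cancel_right] at h1
  let cx : MulAut E :=
    { toFun := fun e => ⟨x * e * x⁻¹, hnorm x hx e⟩
      invFun := fun e => ⟨x⁻¹ * e * x⁻¹⁻¹, hnorm _ (X.inv_mem hx) e⟩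
      left_inv := fun e => Subtype.ext (by simp [mul_assoc])
      right_inv := fun e => Subtype.ext (by simp [mul_assoc])
      map_mul' := fun a b => Subtype.ext (by simp [mul_assoc]) }
  have hcx : ∀ e : E, ((cx e : E) : Ω) = x * e * x⁻¹ := fun e => rfl
  have hcxK : cx ∈ K := by
    refine ⟨h.indu (Subgroup.subset_closure ⟨x, hXS hx, hcx⟩), ?_, ?_, ?_, ?_⟩
    · exact fun e _ => c3 x hx e e.2
    · exact fun e he => c2 x hx e he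
    · exact fun e he => c1 x hx e he
    · intro e he
      rw [hcx, c0 x hx e he, mul_inv_cancel_right, mul_inv_cancel]
      exact Subgroup.one_mem _
  obtain ⟨a, ha⟩ := hKI hcxK
  have h1 : (a : Ω)⁻¹ * x ∈ E := by
    refine h.cent _ (S.mul_mem (S.inv_mem (h.E_le a.2)) (hXS hx)) fun e he => ?_
    have h2 := congrArg (fun γ : MulAut E => ((γ ⟨e, he⟩ : E) : Ω)) ha
    have h3 : (a : Ω) * e * (a : Ω)⁻¹ = x * e * x⁻¹ := h2
    have h4 : x * e = (a : Ω) * e * (a : Ω)⁻¹ * x := by rw [h3, inv_mul_cancel_right]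
    rw [mul_assoc, h4]
    group
  have h2 := E.mul_mem a.2 h1
  rwa [mul_inv_cancel_left] at h2

end Cfsg.Agent.H732.PU
end

-- part: H659/PU/Over
section
set_option linter.all false
open scoped Cfsg.Agent.FastGrp

/-!
# S5258, engine statement (G6): an essential subgroup containing an invariant TI subgroup `Q` is `Q` (helper659)
-/

set_option autoImplicit false

namespace Cfsg.Agent.H659.PU

open Cfsg Cfsg.FusionSystem Cfsg.Agent.H802 Cfsg.Agent.H756.PU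

universe u

variable {Ω : Type u} [Group Ω]

/-- the automorphisms of `E` in `Γ` which act on `Q` as an element of `S` -/
def actS (S : Subgroup Ω) {E Q : Subgroup Ω} (hQE : Q ≤ E) (Γ : Subgroup (MulAut E))
    (hSQ : S ≤ Subgroup.normalizer (Q : Set Ω)) : Subgroup Γ where
  carrier := {γ | ∃ g ∈ S, ∀ (x : Ω) (hx : x ∈ Q), (((γ : MulAut E) ⟨x, hQE hx⟩ : E) : Ω) = g * x * g⁻¹}
  one_mem' := ⟨1, S.one_mem, fun x hx => by simp⟩
  mul_mem' := by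
    rintro γ δ ⟨g, hg, h1⟩ ⟨k, hk, h2⟩
    refine ⟨g * k, S.mul_mem hg hk, fun x hx => ?_⟩
    have hx' : k * x * k⁻¹ ∈ Q := (Subgroup.mem_normalizer_iff.1 (hSQ hk) x).1 hx
    have e : (δ : MulAut E) ⟨x, hQE hx⟩ = ⟨k * x * k⁻¹, hQE hx'⟩ := Subtype.ext (h2 x hx)
    show (((γ : MulAut E) ((δ : MulAut E) ⟨x, hQE hx⟩) : E) : Ω) = _
    rw [e, h1 _ hx']
    group
  inv_mem' := by
    rintro γ ⟨g, hg, h1⟩
    refine ⟨g⁻¹, S.inv_mem hg, fun x hx => ?_⟩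
    have hx' : g⁻¹ * x * g⁻¹⁻¹ ∈ Q := (Subgroup.mem_normalizer_iff.1 (hSQ (S.inv_mem hg)) x).1 hx
    have e : (γ : MulAut E) ⟨g⁻¹ * x * g⁻¹⁻¹, hQE hx'⟩ = ⟨x, hQE hx⟩ := Subtype.ext (by
      rw [h1 _ hx']; group)
    have e2 : ((γ : MulAut E)⁻¹ ⟨x, hQE hx⟩ : E) = ⟨g⁻¹ * x * g⁻¹⁻¹, hQE hx'⟩ := by
      rw [← e]
      exact (γ : MulAut E).symm_apply_apply _
    show ((((γ : MulAut E)⁻¹ : MulAut E) ⟨x, hQE hx⟩ : E) : Ω) = _
    rw [e2]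

/-- **(G6)** an essential subgroup containing an invariant TI-subgroup `Q` is `Q`. -/
theorem stOver : StOver.{u} := by
  intro Ω _ S _ p _ F Q E hS hF hE hQE hSQ hC hTI hInv
  by_contra hne
  have hES : E ≤ S := hE.1.1
  have hQS : Q ≤ S := hQE.trans hES
  have hfE : Finite E := finite_of_le hES
  have hfQ : Finite Q := finite_of_le hQS
  obtain ⟨e, heE, heQ⟩ : ∃ e ∈ E, e ∉ Q := by
    by_contra hcon
    push Not at hcon
    exact hne (le_antisymm hcon hQE)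
  -- restriction to `Q`
  have hres : ∀ γ ∈ F.autGroup E, ∃ δ ∈ F.autGroup Q,
      ∀ (x : Ω) (hx : x ∈ Q), ((δ ⟨x, hx⟩ : Q) : Ω) = ((γ ⟨x, hQE hx⟩ : E) : Ω) := by
    intro γ hγ
    have h1 : ((E.subtype.comp γ.toMonoidHom).comp (Subgroup.inclusion hQE)) ∈ F.Hom Q :=
      restrict_mem ((mem_autGroup_iff F hES γ).1 hγ) hQE
    obtain ⟨δ, hδ, h2⟩ := exists_aut h1 (range_eq_of_mapsTo h1 (fun x => hInv.2 γ hγ ⟨x, hQE x.2⟩ x.2))
    exact ⟨δ, hδ, fun x hx => h2 ⟨x, hx⟩⟩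
  -- conjugation by `e` on `Q`
  obtain ⟨κ, hκ⟩ := exists_conjAut (hSQ (hES heE))
  have hκS : κ ∈ autInducedBy S Q := conj_mem_autInducedBy (hES heE) hκ
  have hκI : κ ∉ Inn Q := fun h => heQ (mem_of_conj_mem_inn hQS hC (hES heE) hκ h)
  -- every restriction normalizes `Aut_S(Q)`
  have hnorm : ∀ γ ∈ F.autGroup E, ∀ δ ∈ F.autGroup Q,
      (∀ (x : Ω) (hx : x ∈ Q), ((δ ⟨x, hx⟩ : Q) : Ω) = ((γ ⟨x, hQE hx⟩ : E) : Ω)) → NormAut S δ := by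
    intro γ hγ δ hδ h
    refine hTI δ hδ κ hκS hκI ?_
    refine conj_mem_autInducedBy (g := ((γ ⟨e, heE⟩ : E) : Ω)) (hES (γ _).2) (fun x => ?_)
    have e1 : ((δ (κ (δ⁻¹ x)) : Q) : Ω) = ((γ ⟨_, hQE (κ (δ⁻¹ x)).2⟩ : E) : Ω) := h _ (κ (δ⁻¹ x)).2
    have e2 : (⟨_, hQE (κ (δ⁻¹ x)).2⟩ : E) = ⟨e, heE⟩ * ⟨_, hQE (δ⁻¹ x).2⟩ * ⟨e, heE⟩⁻¹ :=
      Subtype.ext (hκ _)
    have e3 : ((γ ⟨_, hQE (δ⁻¹ x).2⟩ : E) : Ω) = x := by
      rw [← h _ (δ⁻¹ x).2]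
      exact congrArg Subtype.val (δ.apply_symm_apply x)
    show ((δ (κ (δ⁻¹ x)) : Q) : Ω) = _
    rw [e1, e2, map_mul, map_mul, map_inv]
    show ((γ ⟨e, heE⟩ : E) : Ω) * ((γ ⟨_, hQE (δ⁻¹ x).2⟩ : E) : Ω) * ((γ ⟨e, heE⟩ : E) : Ω)⁻¹ = _
    rw [e3]
  -- the normal `p`-subgroup
  set N := actS S hQE (F.autGroup E) hSQ with hNdef
  have hNn : N.Normal := by
    refine ⟨?_⟩
    rintro ν ⟨g, hg, hν⟩ γ
    obtain ⟨δ, hδ, h⟩ := hres γ γ.2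
    obtain ⟨c, hc⟩ := exists_conjAut (hSQ hg)
    have h1 := hnorm γ γ.2 δ hδ h c (conj_mem_autInducedBy hg hc)
    obtain ⟨k, hk, h2⟩ := (mem_autInducedBy_iff S Q _).1 h1
    refine ⟨k, hk, fun x hx => ?_⟩
    have e0 : ((γ : MulAut E)⁻¹ ⟨x, hQE hx⟩ : E) = ⟨_, hQE (δ⁻¹ ⟨x, hx⟩).2⟩ := by
      apply (γ : MulAut E).injective
      rw [MulAut.apply_inv_self]
      apply Subtype.ext
      rw [← h _ (δ⁻¹ ⟨x, hx⟩).2]
      exact (congrArg Subtype.val (δ.apply_symm_apply ⟨x, hx⟩)).symm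
    have e1 : (ν : MulAut E) ⟨_, hQE (δ⁻¹ ⟨x, hx⟩).2⟩ = ⟨_, hQE (c (δ⁻¹ ⟨x, hx⟩)).2⟩ :=
      Subtype.ext ((hν _ (δ⁻¹ ⟨x, hx⟩).2).trans (hc _).symm)
    show (((γ : MulAut E) ((ν : MulAut E) ((γ : MulAut E)⁻¹ ⟨x, hQE hx⟩)) : E) : Ω) = _
    rw [e0, e1, ← h _ (c (δ⁻¹ ⟨x, hx⟩)).2]
    exact h2 ⟨x, hx⟩
  have hEp : IsPGroup p E := hS.to_le hES
  have hNp : IsPGroup p N := by
    rintro ⟨ν, g, hg, hν⟩
    obtain ⟨k, hk⟩ := hS ⟨g, hg⟩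
    have hk' : g ^ p ^ k = 1 := by simpa using congrArg Subtype.val hk
    have hpow : ∀ (n : ℕ) (x : Ω) (hx : x ∈ Q),
        (((((ν : MulAut E) ^ n : MulAut E)) ⟨x, hQE hx⟩ : E) : Ω) = g ^ n * x * (g ^ n)⁻¹ := by
      intro n
      induction n with
      | zero => intro x hx; simp
      | succ n ih =>
        intro x hx
        have hx' : g * x * g⁻¹ ∈ Q := (Subgroup.mem_normalizer_iff.1 (hSQ hg) x).1 hx
        have e : (ν : MulAut E) ⟨x, hQE hx⟩ = ⟨g * x * g⁻¹, hQE hx'⟩ := Subtype.ext (hν x hx)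
        rw [pow_succ, MulAut.mul_apply, e, ih _ hx', pow_succ]
        group
    have hid : ∀ (x : Ω) (hx : x ∈ Q),
        (((((ν : MulAut E) ^ p ^ k : MulAut E)) ⟨x, hQE hx⟩ : E) : Ω) = x := by
      intro x hx
      rw [hpow _ x hx, hk']
      simp
    have hst : ((ν : MulAut E) ^ p ^ k) ∈ H783.chainStab (Q.subgroupOf E) := by
      refine ⟨fun x hx => Subtype.ext (hid x hx), fun y => ?_⟩
      set μ : MulAut E := (ν : MulAut E) ^ p ^ k with hμ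
      show ((y⁻¹ * μ y : E) : Ω) ∈ Q
      apply hC
      refine ⟨S.mul_mem (S.inv_mem (hES y.2)) (hES (μ y).2), Subgroup.mem_centralizer_iff.2 fun x hx => ?_⟩
      have hx' : (y : Ω) * x * (y : Ω)⁻¹ ∈ Q := (Subgroup.mem_normalizer_iff.1 (hSQ (hES y.2)) x).1 hx
      have e1 : μ ⟨x, hQE hx⟩ = ⟨x, hQE hx⟩ := Subtype.ext (hid x hx)
      have e2 : μ (y * ⟨x, hQE hx⟩ * y⁻¹) = y * ⟨x, hQE hx⟩ * y⁻¹ := Subtype.ext (hid _ hx')
      rw [map_mul, map_mul, map_inv, e1] at e2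
      have e3 : ((μ y : E) : Ω) * x * ((μ y : E) : Ω)⁻¹ = (y : Ω) * x * (y : Ω)⁻¹ :=
        congrArg Subtype.val e2
      show x * ((y : Ω)⁻¹ * ((μ y : E) : Ω)) = (y : Ω)⁻¹ * ((μ y : E) : Ω) * x
      have e4 : ((μ y : E) : Ω) * x = (y : Ω) * x * (y : Ω)⁻¹ * ((μ y : E) : Ω) := by
        rw [← e3]; group
      rw [mul_assoc (y : Ω)⁻¹, e4]
      group
    obtain ⟨m, hm⟩ := H783.isPGroup_chainStab hEp (Q.subgroupOf E) ⟨_, hst⟩
    have hm' : ((ν : MulAut E) ^ p ^ k) ^ p ^ m = 1 := by simpa using congrArg Subtype.val hm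
    refine ⟨k + m, Subtype.ext (Subtype.ext ?_)⟩
    show (ν : MulAut E) ^ p ^ (k + m) = 1
    rw [pow_add, pow_mul]
    exact hm'
  -- conclusion
  have hrad := (H744.isRadical_of_isEssential hS hE).2
  have hlt := card_lt_card_normalizerIn hS hES (ne_of_isEssential hS hF hE)
  obtain ⟨x, hxN, hxE⟩ : ∃ x ∈ normalizerIn S E, x ∉ E := by
    by_contra hcon
    push Not at hcon
    have h1 : normalizerIn S E ≤ E := hcon
    exact absurd (Subgroup.card_le_of_le h1) (not_le.2 hlt)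
  obtain ⟨c, hc⟩ := exists_conjAut hxN.2
  have hcS : c ∈ autInducedBy S E := conj_mem_autInducedBy hxN.1 hc
  have hcΓ : c ∈ F.autGroup E := autInducedBy_le_autGroup F hES hcS
  have hcN : (⟨c, hcΓ⟩ : F.autGroup E) ∈ N := ⟨x, hxN.1, fun y hy => hc ⟨y, hQE hy⟩⟩
  have hcp : (⟨c, hcΓ⟩ : F.autGroup E) ∈ pCore p (F.autGroup E) :=
    Cfsg.Agent.Lib.Cores.le_pCore hNn hNp hcN
  have hcI : c ∈ Inn E := by
    rw [← hrad]
    exact ⟨_, hcp, rfl⟩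
  exact hxE (mem_of_conj_mem_inn hES (hE.1.2 E (isConj_refl F hES)) hxN.1 hc hcI)

end Cfsg.Agent.H659.PU
end

-- part: H779/G2/Stmts2
section
set_option linter.all false

/-!
# S5211: statements, second part
-/

set_option autoImplicit false

namespace Cfsg.Agent.H779.G2

open Cfsg Cfsg.FusionSystem Cfsg.Agent.H756.PU

universe u v

/-- (TORUS) addition to the engine: in the situation of `StFF` (any `p`) the torus of `L ≅ SL₂(F)`: `φ₁` identifies `C/D` with `F`,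
`φ₂` identifies `M/C` with `F`, where `C = cmod A M N` -/
def StTorus : Prop :=
  ∀ {Ω : Type u} [Group Ω] {S E : Subgroup Ω} {p : ℕ} {Γ : Subgroup (MulAut E)}, Ess S E p Γ →
    ∀ N M X A : Subgroup Ω, Inv Γ N → Inv Γ M → N ≤ M → X ≤ M → Com E M N → (∀ m ∈ M, m ^ p ∈ N) →
    M = hull Γ X ⊔ N → Com (normalizerIn S E) X N →
    A ≤ normalizerIn S E → ¬ A ≤ E → Com A A E → (∀ x ∈ A, x ^ p ∈ E) → Com A E M →
    (∀ x ∈ A, ∀ m ∈ N, x * m = m * x) →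
    (cmod A M N).relIndex M ≤ E.relIndex A →
    ∃ D : Subgroup Ω, Inv Γ D ∧ N ≤ D ∧ D ≤ cmod A M N ∧ cmod A M N ≤ M ∧ Com (normalizerIn S E) D N ∧
    D.relIndex M = (E.relIndex A) ^ 2 ∧
    ∃ (F : Type) (_ : Field F) (_ : Fintype F) (φ₁ φ₂ : Ω → F), Fintype.card F = E.relIndex A ∧ CharP F p ∧
      (∀ x ∈ cmod A M N, ∀ y ∈ cmod A M N, φ₁ (x * y) = φ₁ x + φ₁ y) ∧ (∀ x ∈ cmod A M N, φ₁ x = 0 ↔ x ∈ D) ∧
      (∀ x ∈ M, ∀ y ∈ M, φ₂ (x * y) = φ₂ x + φ₂ y) ∧ (∀ x ∈ M, φ₂ x = 0 ↔ x ∈ cmod A M N) ∧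
      ∀ l : F, l ≠ 0 → ∃ γ ∈ Subgroup.closure {x : MulAut E | ∃ g ∈ Γ, ∃ y ∈ autInducedBy S E, x = g * y * g⁻¹},
        γ ∈ Γ ∧ (orderOf γ).Coprime p ∧ NormAut S γ ∧
        (∀ m : E, (m : Ω) ∈ cmod A M N → φ₁ (γ m : E) = l * φ₁ (m : Ω)) ∧
        (∀ m : E, (m : Ω) ∈ M → φ₂ (γ m : E) = l⁻¹ * φ₂ (m : Ω))

/-- (Lb0) for `p = 3` a non-closed `Γ = Aut_F(Q_b)` acts faithfully modulo `Inn` on `Q_b / Z₃` and moves `J = Z₄` -/
def StLb0 : Prop :=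
  ∀ {K : Type u} [Field K] {n : ℕ}, HypG K 3 n →
    ∀ (Γ : Subgroup (MulAut (Qb K))), autInducedBy ⊤ (Qb K) ≤ Γ →
    (∀ P : Subgroup (MulAut (Qb K)), P ≤ Γ → IsPGroup 3 P → ∃ g ∈ Γ, ∀ x ∈ P, g * x * g⁻¹ ∈ autInducedBy ⊤ (Qb K)) →
    (¬ ∀ γ ∈ Γ, NormAut ⊤ γ) →
    (∀ γ ∈ Γ, NormAut ⊤ γ → ∃ α : MulAut (GU K), IsR α γ) →
    (∀ γ ∈ Γ, (∀ g : Qb K, ((γ g : Qb K) : GU K).a = (g : GU K).a ∧ ((γ g : Qb K) : GU K).c = (g : GU K).c) → γ ∈ Inn (Qb K)) ∧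
    (∃ γ ∈ Γ, ∃ g : Qb K, (g : GU K).a = 0 ∧ ((γ g : Qb K) : GU K).a ≠ 0)

/-- (E5d), (E5e), (E5f): the three classes of subgroups killed by extension -/
def StE5d : Prop :=
  ∀ {K : Type u} [Field K] {p n : ℕ} [Fact p.Prime], HypG K p n → 5 ≤ p →
    ∀ (F : FusionSystem (⊤ : Subgroup (GU K))), F.IsSaturated p → ∀ E, F.IsEssential p E → ¬ Z3 K ≤ E → E ≤ Qb K →
    ¬ E ≤ Qa K → False

def StE5e : Prop :=
  ∀ {K : Type u} [Field K] {p n : ℕ} [Fact p.Prime], HypG K p n → 5 ≤ p →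
    ∀ (F : FusionSystem (⊤ : Subgroup (GU K))), F.IsSaturated p → ∀ E, F.IsEssential p E → Z2 K ≤ E → ¬ Z3 K ≤ E →
    ¬ E ≤ Qb K → ¬ E ≤ Qa K → False

def StE5f : Prop :=
  ∀ {K : Type u} [Field K] {p n : ℕ} [Fact p.Prime], HypG K p n → 5 ≤ p → ¬ (p = 7 ∧ n = 1) →
    ∀ (F : FusionSystem (⊤ : Subgroup (GU K))), F.IsSaturated p → ∀ E, F.IsEssential p E → ¬ Z2 K ≤ E → E ≤ Qa K

/-- (E3-1) `p = 3`, `J ≤ E` -/
def StE31 : Prop :=
  ∀ {K : Type u} [Field K] {n : ℕ}, HypG K 3 n →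
    ∀ {E : Subgroup (GU K)} {Γ : Subgroup (MulAut E)}, Ess (⊤ : Subgroup (GU K)) E 3 Γ → Z4 K ≤ E → E = Qa K ∨ E = Qb K

/-- (E3-2) `p = 3`, `J ≰ E` -/
def StE32 : Prop :=
  ∀ {K : Type u} [Field K] {n : ℕ} [Fact (Nat.Prime 3)], HypG K 3 n →
    ∀ (F : FusionSystem (⊤ : Subgroup (GU K))), F.IsSaturated 3 → ∀ E, F.IsEssential 3 E → Z4 K ≤ E

end Cfsg.Agent.H779.G2
end

-- part: H103/GT/Coord
section
set_option linter.all false
open scoped Cfsg.Agent.FastGrp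

/-!
# S5211: coordinate lemmas for `GU K` (helper103)

* `cj_a .. cj_f` : the coordinates of `x y x⁻¹`; `cm_a .. cm_f` : the coordinates of `x y x⁻¹ y⁻¹`;
* `mem_Z1 .. mem_Qb` (by `Iff.rfl`), inclusions `Z1 ≤ Z2 ≤ Z3 ≤ Z4 ≤ Qa, Qb`, normality (instances), orders, relative indices;
* `com_top_top : Com ⊤ ⊤ Z4`, `com_top_Z4`, `com_top_Z3`, `com_top_Z2`, `com_Qa`, `com_Qb`, `com_Qb_Z3`, ...
* `comm_*` : elements that commute; `cent_*` : centralizers (`3 ≠ 0` or `3 = 0` in `K`);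
* `x1 .. x6` : root elements, `decomp`.
-/

set_option autoImplicit false
set_option linter.unusedSimpArgs false
set_option linter.unreachableTactic false
set_option linter.unusedTactic false
set_option linter.unnecessarySeqFocus false

namespace Cfsg.Agent.H103.GT

open Cfsg Cfsg.Agent.H779.G2 Cfsg.Agent.H756.PU

universe u

variable {K : Type u} [Field K]

/-! ### conjugation and commutators -/

theorem cj_a (x y : GU K) : (x * y * x⁻¹).a = y.a := by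
  simp only [GU.mul_a, GU.mul_b, GU.mul_c, GU.mul_d, GU.mul_e, GU.mul_f, GU.inv_a, GU.inv_b, GU.inv_c, GU.inv_d, GU.inv_e, GU.inv_f]
  ring

theorem cj_b (x y : GU K) : (x * y * x⁻¹).b = y.b := by
  simp only [GU.mul_a, GU.mul_b, GU.mul_c, GU.mul_d, GU.mul_e, GU.mul_f, GU.inv_a, GU.inv_b, GU.inv_c, GU.inv_d, GU.inv_e, GU.inv_f]
  ring

theorem cj_c (x y : GU K) : (x * y * x⁻¹).c = -x.a * y.b + x.b * y.a + y.c := by
  simp only [GU.mul_a, GU.mul_b, GU.mul_c, GU.mul_d, GU.mul_e, GU.mul_f, GU.inv_a, GU.inv_b, GU.inv_c, GU.inv_d, GU.inv_e, GU.inv_f]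
  ring

theorem cj_d (x y : GU K) : (x * y * x⁻¹).d = -2 * x.a * x.b * y.a - 2 * x.a * y.c + x.a ^ 2 * y.b + x.b * y.a ^ 2 + 2 * x.c * y.a + y.d := by
  simp only [GU.mul_a, GU.mul_b, GU.mul_c, GU.mul_d, GU.mul_e, GU.mul_f, GU.inv_a, GU.inv_b, GU.inv_c, GU.inv_d, GU.inv_e, GU.inv_f]
  ring

theorem cj_e (x y : GU K) : (x * y * x⁻¹).e = -3 * x.a * x.b * y.a ^ 2 - 6 * x.a * x.c * y.a - 3 * x.a * y.d + 3 * x.a ^ 2 * x.b * y.a + 3 * x.a ^ 2 * y.c - x.a ^ 3 * y.b + x.b * y.a ^ 3 + 3 * x.c * y.a ^ 2 + 3 * x.d * y.a + y.e := by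
  simp only [GU.mul_a, GU.mul_b, GU.mul_c, GU.mul_d, GU.mul_e, GU.mul_f, GU.inv_a, GU.inv_b, GU.inv_c, GU.inv_d, GU.inv_e, GU.inv_f]
  ring

theorem cj_f (x y : GU K) : (x * y * x⁻¹).f = -6 * x.a * x.b * y.a * y.c - 3 * x.a * x.b ^ 2 * y.a ^ 2 - 3 * x.a * y.c ^ 2 + 3 * x.a ^ 2 * x.b * y.a * y.b + 3 * x.a ^ 2 * y.b * y.c - x.a ^ 3 * y.b ^ 2 + 3 * x.b * x.c * y.a ^ 2 + 3 * x.b * x.d * y.a + 3 * x.b * y.a ^ 2 * y.c - x.b * y.a ^ 3 * y.b + x.b * y.e + 2 * x.b ^ 2 * y.a ^ 3 + 6 * x.c * y.a * y.c - 3 * x.c * y.a ^ 2 * y.b - 3 * x.c * y.d - 3 * x.c ^ 2 * y.a - 3 * x.d * y.a * y.b + 3 * x.d * y.c - x.e * y.b + y.f := by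
  simp only [GU.mul_a, GU.mul_b, GU.mul_c, GU.mul_d, GU.mul_e, GU.mul_f, GU.inv_a, GU.inv_b, GU.inv_c, GU.inv_d, GU.inv_e, GU.inv_f]
  ring

theorem cm_a (x y : GU K) : (x * y * x⁻¹ * y⁻¹).a = 0 := by
  simp only [GU.mul_a, GU.mul_b, GU.mul_c, GU.mul_d, GU.mul_e, GU.mul_f, GU.inv_a, GU.inv_b, GU.inv_c, GU.inv_d, GU.inv_e, GU.inv_f]
  ring

theorem cm_b (x y : GU K) : (x * y * x⁻¹ * y⁻¹).b = 0 := by
  simp only [GU.mul_a, GU.mul_b, GU.mul_c, GU.mul_d, GU.mul_e, GU.mul_f, GU.inv_a, GU.inv_b, GU.inv_c, GU.inv_d, GU.inv_e, GU.inv_f]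
  ring

theorem cm_c (x y : GU K) : (x * y * x⁻¹ * y⁻¹).c = -x.a * y.b + x.b * y.a := by
  simp only [GU.mul_a, GU.mul_b, GU.mul_c, GU.mul_d, GU.mul_e, GU.mul_f, GU.inv_a, GU.inv_b, GU.inv_c, GU.inv_d, GU.inv_e, GU.inv_f]
  ring

theorem cm_d (x y : GU K) : (x * y * x⁻¹ * y⁻¹).d = -2 * x.a * x.b * y.a + 2 * x.a * y.a * y.b - 2 * x.a * y.c + x.a ^ 2 * y.b - x.b * y.a ^ 2 + 2 * x.c * y.a := by
  simp only [GU.mul_a, GU.mul_b, GU.mul_c, GU.mul_d, GU.mul_e, GU.mul_f, GU.inv_a, GU.inv_b, GU.inv_c, GU.inv_d, GU.inv_e, GU.inv_f]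
  ring

theorem cm_e (x y : GU K) : (x * y * x⁻¹ * y⁻¹).e = 3 * x.a * x.b * y.a ^ 2 - 6 * x.a * x.c * y.a + 6 * x.a * y.a * y.c - 3 * x.a * y.a ^ 2 * y.b - 3 * x.a * y.d + 3 * x.a ^ 2 * x.b * y.a - 3 * x.a ^ 2 * y.a * y.b + 3 * x.a ^ 2 * y.c - x.a ^ 3 * y.b + x.b * y.a ^ 3 - 3 * x.c * y.a ^ 2 + 3 * x.d * y.a := by
  simp only [GU.mul_a, GU.mul_b, GU.mul_c, GU.mul_d, GU.mul_e, GU.mul_f, GU.inv_a, GU.inv_b, GU.inv_c, GU.inv_d, GU.inv_e, GU.inv_f]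
  ring

theorem cm_f (x y : GU K) : (x * y * x⁻¹ * y⁻¹).f = 3 * x.a * x.b * y.a ^ 2 * y.b - 3 * x.a * x.b ^ 2 * y.a ^ 2 - 6 * x.a * x.c * y.a * y.b - 3 * x.a * y.b * y.d + 3 * x.a * y.c ^ 2 + 6 * x.a ^ 2 * x.b * y.a * y.b - 3 * x.a ^ 2 * y.a * y.b ^ 2 + 3 * x.a ^ 2 * y.b * y.c - 2 * x.a ^ 3 * y.b ^ 2 + 3 * x.b * x.c * y.a ^ 2 + 3 * x.b * x.d * y.a + x.b * y.e - x.b ^ 2 * y.a ^ 3 - 3 * x.c * y.d - 3 * x.c ^ 2 * y.a + 3 * x.d * y.c - x.e * y.b := by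
  simp only [GU.mul_a, GU.mul_b, GU.mul_c, GU.mul_d, GU.mul_e, GU.mul_f, GU.inv_a, GU.inv_b, GU.inv_c, GU.inv_d, GU.inv_e, GU.inv_f]
  ring

/-! ### membership -/

theorem mem_Z1 {g : GU K} : g ∈ Z1 K ↔ g.a = 0 ∧ g.b = 0 ∧ g.c = 0 ∧ g.d = 0 ∧ g.e = 0 := Iff.rfl

theorem mem_Z2 {g : GU K} : g ∈ Z2 K ↔ g.a = 0 ∧ g.b = 0 ∧ g.c = 0 ∧ g.d = 0 := Iff.rfl

theorem mem_Z3 {g : GU K} : g ∈ Z3 K ↔ g.a = 0 ∧ g.b = 0 ∧ g.c = 0 := Iff.rfl

theorem mem_Z4 {g : GU K} : g ∈ Z4 K ↔ g.a = 0 ∧ g.b = 0 := Iff.rfl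

theorem mem_Qa {g : GU K} : g ∈ Qa K ↔ g.a = 0 := Iff.rfl

theorem mem_Qb {g : GU K} : g ∈ Qb K ↔ g.b = 0 := Iff.rfl

theorem Z1_le_Z2 : Z1 K ≤ Z2 K := fun _ h => ⟨h.1, h.2.1, h.2.2.1, h.2.2.2.1⟩
theorem Z2_le_Z3 : Z2 K ≤ Z3 K := fun _ h => ⟨h.1, h.2.1, h.2.2.1⟩
theorem Z3_le_Z4 : Z3 K ≤ Z4 K := fun _ h => ⟨h.1, h.2.1⟩
theorem Z4_le_Qa : Z4 K ≤ Qa K := fun _ h => h.1
theorem Z4_le_Qb : Z4 K ≤ Qb K := fun _ h => h.2
theorem Z1_le_Z3 : Z1 K ≤ Z3 K := Z1_le_Z2.trans Z2_le_Z3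
theorem Z1_le_Z4 : Z1 K ≤ Z4 K := Z1_le_Z3.trans Z3_le_Z4
theorem Z2_le_Z4 : Z2 K ≤ Z4 K := Z2_le_Z3.trans Z3_le_Z4
theorem Z3_le_Qa : Z3 K ≤ Qa K := Z3_le_Z4.trans Z4_le_Qa
theorem Z3_le_Qb : Z3 K ≤ Qb K := Z3_le_Z4.trans Z4_le_Qb
theorem Z2_le_Qa : Z2 K ≤ Qa K := Z2_le_Z4.trans Z4_le_Qa
theorem Z2_le_Qb : Z2 K ≤ Qb K := Z2_le_Z4.trans Z4_le_Qb
theorem Z1_le_Qa : Z1 K ≤ Qa K := Z1_le_Z4.trans Z4_le_Qa
theorem Z1_le_Qb : Z1 K ≤ Qb K := Z1_le_Z4.trans Z4_le_Qb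
theorem Qa_inf_Qb : Qa K ⊓ Qb K = Z4 K := le_antisymm (fun _ h => ⟨h.1, h.2⟩) (le_inf Z4_le_Qa Z4_le_Qb)

/-! ### normality -/

instance normal_Z1 : (Z1 K).Normal := by
  refine ⟨fun y hy x => ?_⟩
  obtain ⟨ha, hb, hc, hd, he⟩ := mem_Z1.1 hy
  refine ⟨?_, ?_, ?_, ?_, ?_⟩
  · rw [cj_a]; simp only [ha, hb, hc, hd, he] <;> ring
  · rw [cj_b]; simp only [ha, hb, hc, hd, he] <;> ring
  · rw [cj_c]; simp only [ha, hb, hc, hd, he] <;> ring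
  · rw [cj_d]; simp only [ha, hb, hc, hd, he] <;> ring
  · rw [cj_e]; simp only [ha, hb, hc, hd, he] <;> ring

instance normal_Z2 : (Z2 K).Normal := by
  refine ⟨fun y hy x => ?_⟩
  obtain ⟨ha, hb, hc, hd⟩ := mem_Z2.1 hy
  refine ⟨?_, ?_, ?_, ?_⟩
  · rw [cj_a]; simp only [ha, hb, hc, hd] <;> ring
  · rw [cj_b]; simp only [ha, hb, hc, hd] <;> ring
  · rw [cj_c]; simp only [ha, hb, hc, hd] <;> ring
  · rw [cj_d]; simp only [ha, hb, hc, hd] <;> ring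

instance normal_Z3 : (Z3 K).Normal := by
  refine ⟨fun y hy x => ?_⟩
  obtain ⟨ha, hb, hc⟩ := mem_Z3.1 hy
  refine ⟨?_, ?_, ?_⟩
  · rw [cj_a]; simp only [ha, hb, hc] <;> ring
  · rw [cj_b]; simp only [ha, hb, hc] <;> ring
  · rw [cj_c]; simp only [ha, hb, hc] <;> ring

instance normal_Z4 : (Z4 K).Normal := by
  refine ⟨fun y hy x => ?_⟩
  obtain ⟨ha, hb⟩ := mem_Z4.1 hy
  refine ⟨?_, ?_⟩
  · rw [cj_a]; simp only [ha, hb] <;> ring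
  · rw [cj_b]; simp only [ha, hb] <;> ring

instance normal_Qa : (Qa K).Normal := by
  refine ⟨fun y hy x => ?_⟩
  have h : y.a = 0 := hy
  show (x * y * x⁻¹).a = 0
  rw [cj_a, h]

instance normal_Qb : (Qb K).Normal := by
  refine ⟨fun y hy x => ?_⟩
  have h : y.b = 0 := hy
  show (x * y * x⁻¹).b = 0
  rw [cj_b, h]

/-! ### commutators -/

theorem com_top_top : Com ⊤ ⊤ (Z4 K) := by
  intro x hx y hy
  refine ⟨?_, ?_⟩
  · exact cm_a x y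
  · exact cm_b x y

theorem com_top_Z4 : Com ⊤ (Z4 K) (Z3 K) := by
  intro x hx y hy
  obtain ⟨qa, qb⟩ := mem_Z4.1 hy
  refine ⟨?_, ?_, ?_⟩
  · exact cm_a x y
  · exact cm_b x y
  · rw [cm_c]; simp only [qa, qb] <;> ring

theorem com_top_Z3 : Com ⊤ (Z3 K) (Z2 K) := by
  intro x hx y hy
  obtain ⟨qa, qb, qc⟩ := mem_Z3.1 hy
  refine ⟨?_, ?_, ?_, ?_⟩
  · exact cm_a x y
  · exact cm_b x y
  · rw [cm_c]; simp only [qa, qb, qc] <;> ring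
  · rw [cm_d]; simp only [qa, qb, qc] <;> ring

theorem com_top_Z2 : Com ⊤ (Z2 K) (Z1 K) := by
  intro x hx y hy
  obtain ⟨qa, qb, qc, qd⟩ := mem_Z2.1 hy
  refine ⟨?_, ?_, ?_, ?_, ?_⟩
  · exact cm_a x y
  · exact cm_b x y
  · rw [cm_c]; simp only [qa, qb, qc, qd] <;> ring
  · rw [cm_d]; simp only [qa, qb, qc, qd] <;> ring
  · rw [cm_e]; simp only [qa, qb, qc, qd] <;> ring

theorem com_Qa : Com (Qa K) (Qa K) (Z1 K) := by
  intro x hx y hy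
  have pa : x.a = 0 := hx
  have qa : y.a = 0 := hy
  refine ⟨?_, ?_, ?_, ?_, ?_⟩
  · exact cm_a x y
  · exact cm_b x y
  · rw [cm_c]; simp only [pa, qa] <;> ring
  · rw [cm_d]; simp only [pa, qa] <;> ring
  · rw [cm_e]; simp only [pa, qa] <;> ring

theorem com_Qb : Com (Qb K) (Qb K) (Z3 K) := by
  intro x hx y hy
  have pb : x.b = 0 := hx
  have qb : y.b = 0 := hy
  refine ⟨?_, ?_, ?_⟩
  · exact cm_a x y
  · exact cm_b x y
  · rw [cm_c]; simp only [pb, qb] <;> ring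

theorem com_Qb_Z3 : Com (Qb K) (Z3 K) (Z2 K) := by
  intro x hx y hy
  have pb : x.b = 0 := hx
  obtain ⟨qa, qb, qc⟩ := mem_Z3.1 hy
  refine ⟨?_, ?_, ?_, ?_⟩
  · exact cm_a x y
  · exact cm_b x y
  · rw [cm_c]; simp only [pb, qa, qb, qc] <;> ring
  · rw [cm_d]; simp only [pb, qa, qb, qc] <;> ring

theorem com_Z4 : Com (Z4 K) (Z4 K) (Z1 K) := by
  intro x hx y hy
  obtain ⟨pa, pb⟩ := mem_Z4.1 hx
  obtain ⟨qa, qb⟩ := mem_Z4.1 hy
  refine ⟨?_, ?_, ?_, ?_, ?_⟩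
  · exact cm_a x y
  · exact cm_b x y
  · rw [cm_c]; simp only [pa, pb, qa, qb] <;> ring
  · rw [cm_d]; simp only [pa, pb, qa, qb] <;> ring
  · rw [cm_e]; simp only [pa, pb, qa, qb] <;> ring

theorem com_Z4_top : Com (Z4 K) ⊤ (Z3 K) := by
  intro x hx y hy
  have h1 : x * y * x⁻¹ * y⁻¹ = (y * x * y⁻¹ * x⁻¹)⁻¹ := by group
  rw [h1]
  exact inv_mem (com_top_Z4 y hy x hx)

theorem com_Z3_top : Com (Z3 K) ⊤ (Z2 K) := by
  intro x hx y hy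
  have h1 : x * y * x⁻¹ * y⁻¹ = (y * x * y⁻¹ * x⁻¹)⁻¹ := by group
  rw [h1]
  exact inv_mem (com_top_Z3 y hy x hx)

theorem com_Z2_top : Com (Z2 K) ⊤ (Z1 K) := by
  intro x hx y hy
  have h1 : x * y * x⁻¹ * y⁻¹ = (y * x * y⁻¹ * x⁻¹)⁻¹ := by group
  rw [h1]
  exact inv_mem (com_top_Z2 y hy x hx)

/-- two elements commute iff the commutator has trivial coordinates -/
theorem comm_iff (x y : GU K) : x * y = y * x ↔ (x * y * x⁻¹ * y⁻¹).c = 0 ∧ (x * y * x⁻¹ * y⁻¹).d = 0 ∧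
    (x * y * x⁻¹ * y⁻¹).e = 0 ∧ (x * y * x⁻¹ * y⁻¹).f = 0 := by
  have h1 : x * y = y * x ↔ x * y * x⁻¹ * y⁻¹ = 1 := by
    rw [mul_inv_eq_one, mul_inv_eq_iff_eq_mul]
  rw [h1]
  constructor
  · intro h
    rw [h]
    exact ⟨rfl, rfl, rfl, rfl⟩
  · rintro ⟨h2, h3, h4, h5⟩
    exact GU.ext (cm_a x y) (cm_b x y) h2 h3 h4 h5

/-- `Z₁` is central -/
theorem comm_Z1 (x : GU K) {y : GU K} (hy : y ∈ Z1 K) : x * y = y * x := by
  obtain ⟨ha, hb, hc, hd, he⟩ := mem_Z1.1 hy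
  rw [comm_iff, cm_c, cm_d, cm_e, cm_f]
  simp only [ha, hb, hc, hd, he]
  refine ⟨?_, ?_, ?_, ?_⟩ <;> ring

/-- `Q_b` centralizes `Z₂` -/
theorem comm_Qb_Z2 {x y : GU K} (hx : x ∈ Qb K) (hy : y ∈ Z2 K) : x * y = y * x := by
  have hb' : x.b = 0 := hx
  obtain ⟨ha, hb, hc, hd⟩ := mem_Z2.1 hy
  rw [comm_iff, cm_c, cm_d, cm_e, cm_f]
  simp only [ha, hb, hc, hd, hb']
  refine ⟨?_, ?_, ?_, ?_⟩ <;> ring

/-- `Z₃` is abelian -/
theorem comm_Z3 {x y : GU K} (hx : x ∈ Z3 K) (hy : y ∈ Z3 K) : x * y = y * x := by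
  obtain ⟨pa, pb, pc⟩ := mem_Z3.1 hx
  obtain ⟨ha, hb, hc⟩ := mem_Z3.1 hy
  rw [comm_iff, cm_c, cm_d, cm_e, cm_f]
  simp only [ha, hb, hc, pa, pb, pc]
  refine ⟨?_, ?_, ?_, ?_⟩ <;> ring

/-- `p = 3`: `Z₄` is abelian -/
theorem comm_Z4 (h3 : (3 : K) = 0) {x y : GU K} (hx : x ∈ Z4 K) (hy : y ∈ Z4 K) : x * y = y * x := by
  obtain ⟨pa, pb⟩ := mem_Z4.1 hx
  obtain ⟨ha, hb⟩ := mem_Z4.1 hy
  rw [comm_iff, cm_c, cm_d, cm_e, cm_f]
  simp only [ha, hb, pa, pb]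
  refine ⟨?_, ?_, ?_, ?_⟩
  · ring
  · ring
  · ring
  · linear_combination (x.d * y.c - x.c * y.d) * h3

/-- `p = 3`: `Q_b` centralizes `Z₃` -/
theorem comm_Qb_Z3 (h3 : (3 : K) = 0) {x y : GU K} (hx : x ∈ Qb K) (hy : y ∈ Z3 K) : x * y = y * x := by
  have hb' : x.b = 0 := hx
  obtain ⟨ha, hb, hc⟩ := mem_Z3.1 hy
  rw [comm_iff, cm_c, cm_d, cm_e, cm_f]
  simp only [ha, hb, hc, hb']
  refine ⟨?_, ?_, ?_, ?_⟩
  · ring
  · ring
  · linear_combination (-x.a * y.d) * h3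
  · linear_combination (-x.c * y.d) * h3

/-! ### root elements -/

/-- `x_α(t)` -/
def x1 (t : K) : GU K := ⟨t, 0, 0, 0, 0, 0⟩
/-- `x_β(t)` -/
def x2 (t : K) : GU K := ⟨0, t, 0, 0, 0, 0⟩
/-- `x_{α+β}(t)` -/
def x3 (t : K) : GU K := ⟨0, 0, t, 0, 0, 0⟩
/-- `x_{2α+β}(t)` -/
def x4 (t : K) : GU K := ⟨0, 0, 0, t, 0, 0⟩
/-- `x_{3α+β}(t)` -/
def x5 (t : K) : GU K := ⟨0, 0, 0, 0, t, 0⟩
/-- `x_{3α+2β}(t)` -/
def x6 (t : K) : GU K := ⟨0, 0, 0, 0, 0, t⟩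

theorem decomp (g : GU K) : g = x1 g.a * x2 g.b * x3 g.c * x4 g.d * x5 g.e * x6 g.f := by
  ext
  all_goals
    simp only [x1, x2, x3, x4, x5, x6, GU.mul_a, GU.mul_b, GU.mul_c, GU.mul_d, GU.mul_e, GU.mul_f]
    ring

theorem x6_mem (t : K) : x6 t ∈ Z1 K := ⟨rfl, rfl, rfl, rfl, rfl⟩
theorem x5_mem (t : K) : x5 t ∈ Z2 K := ⟨rfl, rfl, rfl, rfl⟩
theorem x4_mem (t : K) : x4 t ∈ Z3 K := ⟨rfl, rfl, rfl⟩
theorem x3_mem (t : K) : x3 t ∈ Z4 K := ⟨rfl, rfl⟩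
theorem x2_mem (t : K) : x2 t ∈ Qa K := rfl
theorem x1_mem (t : K) : x1 t ∈ Qb K := rfl

/-! ### centralizers -/

/-- `C_S(Z₂) = Q_b` -/
theorem cent_Z2 {x : GU K} : (∀ z ∈ Z2 K, x * z = z * x) ↔ x ∈ Qb K := by
  constructor
  · intro h
    have h1 := (comm_iff _ _).1 (h _ (x5_mem 1))
    rw [cm_f] at h1
    have h2 := h1.2.2.2
    simp only [x5] at h2
    show x.b = 0
    linear_combination h2
  · intro hx z hz
    exact comm_Qb_Z2 hx hz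

/-- `C_S(Z₃) = Z₃` if `p ≠ 3` -/
theorem cent_Z3 (h3 : (3 : K) ≠ 0) {x : GU K} : (∀ z ∈ Z3 K, x * z = z * x) ↔ x ∈ Z3 K := by
  constructor
  · intro h
    have hb : x.b = 0 := cent_Z2.1 fun z hz => h z (Z2_le_Z3 hz)
    have h1 := (comm_iff _ _).1 (h _ (x4_mem 1))
    rw [cm_e, cm_f] at h1
    obtain ⟨-, -, h4, h5⟩ := h1
    simp only [x4] at h4 h5
    refine ⟨?_, hb, ?_⟩
    · apply mul_left_cancel₀ h3
      linear_combination -h4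
    · apply mul_left_cancel₀ h3
      linear_combination -h5
  · intro hx z hz
    exact comm_Z3 hx hz

/-- `C_S(Z₄) = Z₂` if `p ≠ 3` -/
theorem cent_Z4 (h3 : (3 : K) ≠ 0) {x : GU K} : (∀ z ∈ Z4 K, x * z = z * x) ↔ x ∈ Z2 K := by
  constructor
  · intro h
    have h0 := (cent_Z3 h3).1 fun z hz => h z (Z3_le_Z4 hz)
    obtain ⟨ha, hb, hc⟩ := mem_Z3.1 h0
    have h1 := (comm_iff _ _).1 (h _ (x3_mem 1))
    rw [cm_f] at h1
    have h5 := h1.2.2.2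
    simp only [x3, ha, hb, hc] at h5
    refine ⟨ha, hb, hc, ?_⟩
    apply mul_left_cancel₀ h3
    linear_combination h5
  · intro hx z hz
    exact (comm_Qb_Z2 (Z4_le_Qb hz) hx).symm

/-- `C_S(Q_b) = Z₂` if `p ≠ 3` -/
theorem cent_Qb (h3 : (3 : K) ≠ 0) {x : GU K} : (∀ z ∈ Qb K, x * z = z * x) ↔ x ∈ Z2 K := by
  constructor
  · intro h
    exact (cent_Z4 h3).1 fun z hz => h z (Z4_le_Qb hz)
  · intro hx z hz
    exact (comm_Qb_Z2 hz hx).symm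

/-- `C_S(Q_a) = Z₁` if `p ≠ 3` -/
theorem cent_Qa (h3 : (3 : K) ≠ 0) {x : GU K} : (∀ z ∈ Qa K, x * z = z * x) ↔ x ∈ Z1 K := by
  constructor
  · intro h
    have h0 := (cent_Z4 h3).1 fun z hz => h z (Z4_le_Qa hz)
    obtain ⟨ha, hb, hc, hd⟩ := mem_Z2.1 h0
    have h1 := (comm_iff _ _).1 (h _ (x2_mem 1))
    rw [cm_f] at h1
    have h5 := h1.2.2.2
    simp only [x2, ha, hb, hc, hd] at h5
    refine ⟨ha, hb, hc, hd, ?_⟩
    linear_combination -h5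
  · intro hx z _
    exact (comm_Z1 z hx).symm

/-- `p = 3`: `C_S(Z₄) = Z₄` -/
theorem cent_Z4_three (h3 : (3 : K) = 0) {x : GU K} : (∀ z ∈ Z4 K, x * z = z * x) ↔ x ∈ Z4 K := by
  constructor
  · intro h
    have hb : x.b = 0 := cent_Z2.1 fun z hz => h z (Z2_le_Z4 hz)
    have h1 := (comm_iff _ _).1 (h _ (x3_mem 1))
    rw [cm_d] at h1
    have h4 := h1.2.1
    simp only [x3] at h4
    refine ⟨?_, hb⟩
    linear_combination h4 + x.a * h3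
  · intro hx z hz
    exact comm_Z4 h3 hx hz

/-- `p = 3`: `Z(S) = X₄ X₆` -/
theorem cent_top_three (h3 : (3 : K) = 0) {x : GU K} :
    (∀ z : GU K, x * z = z * x) ↔ x.a = 0 ∧ x.b = 0 ∧ x.c = 0 ∧ x.e = 0 := by
  constructor
  · intro h
    obtain ⟨ha, hb⟩ := (cent_Z4_three h3).1 fun z _ => h z
    have h1 := (comm_iff _ _).1 (h (x1 1))
    have h2 := (comm_iff _ _).1 (h (x2 1))
    rw [cm_d] at h1
    rw [cm_f] at h2
    have h4 := h1.2.1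
    have h5 := h2.2.2.2
    simp only [x1, ha, hb] at h4
    simp only [x2, ha, hb] at h5
    refine ⟨ha, hb, ?_, ?_⟩
    · linear_combination -h4 + x.c * h3
    · linear_combination -h5
  · rintro ⟨ha, hb, hc, he⟩ z
    rw [comm_iff, cm_c, cm_d, cm_e, cm_f]
    simp only [ha, hb, hc, he]
    refine ⟨?_, ?_, ?_, ?_⟩
    · ring
    · ring
    · linear_combination (x.d * z.a) * h3
    · linear_combination (x.d * z.c) * h3

/-- the centralizer in `Z₄` of an element with `a, b ≠ 0` (`p ≥ 5`) -/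
theorem mem_Z1_of_comm (h2 : (2 : K) ≠ 0) (h3 : (3 : K) ≠ 0) {x z : GU K} (ha : x.a ≠ 0) (hb : x.b ≠ 0)
    (hz : z ∈ Z4 K) (h : x * z = z * x) : z ∈ Z1 K := by
  obtain ⟨qa, qb⟩ := mem_Z4.1 hz
  have h1 := (comm_iff _ _).1 h
  rw [cm_d, cm_e, cm_f] at h1
  obtain ⟨-, h4, h5, h6⟩ := h1
  simp only [qa, qb] at h4 h5 h6
  have hc : z.c = 0 := by
    apply mul_left_cancel₀ (mul_ne_zero h2 ha)
    linear_combination -h4
  have hd : z.d = 0 := by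
    apply mul_left_cancel₀ (mul_ne_zero h3 ha)
    rw [hc] at h5
    linear_combination -h5
  have he : z.e = 0 := by
    apply mul_left_cancel₀ hb
    rw [hc, hd] at h6
    linear_combination h6
  exact ⟨qa, qb, hc, hd, he⟩

/-! ### orders -/

section Card

/-- coordinates of `Z1` -/
def equiv_Z1 : Z1 K ≃ K where
  toFun x := (x : GU K).f
  invFun y := ⟨⟨0, 0, 0, 0, 0, y⟩, ⟨rfl, rfl, rfl, rfl, rfl⟩⟩
  left_inv x := by
    apply Subtype.ext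
    obtain ⟨ha, hb, hc, hd, he⟩ := mem_Z1.1 x.2
    ext
    · exact ha.symm
    · exact hb.symm
    · exact hc.symm
    · exact hd.symm
    · exact he.symm
    · rfl
  right_inv y := rfl

theorem card_Z1 [Finite K] : Nat.card (Z1 K) = Nat.card K := by
  rw [Nat.card_congr equiv_Z1]

/-- coordinates of `Z2` -/
def equiv_Z2 : Z2 K ≃ K × K where
  toFun x := ((x : GU K).e, (x : GU K).f)
  invFun y := ⟨⟨0, 0, 0, 0, y.1, y.2⟩, ⟨rfl, rfl, rfl, rfl⟩⟩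
  left_inv x := by
    apply Subtype.ext
    obtain ⟨ha, hb, hc, hd⟩ := mem_Z2.1 x.2
    ext
    · exact ha.symm
    · exact hb.symm
    · exact hc.symm
    · exact hd.symm
    · rfl
    · rfl
  right_inv y := rfl

theorem card_Z2 [Finite K] : Nat.card (Z2 K) = Nat.card K ^ 2 := by
  rw [Nat.card_congr equiv_Z2]
  simp only [Nat.card_prod]
  ring

/-- coordinates of `Z3` -/
def equiv_Z3 : Z3 K ≃ K × K × K where
  toFun x := ((x : GU K).d, (x : GU K).e, (x : GU K).f)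
  invFun y := ⟨⟨0, 0, 0, y.1, y.2.1, y.2.2⟩, ⟨rfl, rfl, rfl⟩⟩
  left_inv x := by
    apply Subtype.ext
    obtain ⟨ha, hb, hc⟩ := mem_Z3.1 x.2
    ext
    · exact ha.symm
    · exact hb.symm
    · exact hc.symm
    · rfl
    · rfl
    · rfl
  right_inv y := rfl

theorem card_Z3 [Finite K] : Nat.card (Z3 K) = Nat.card K ^ 3 := by
  rw [Nat.card_congr equiv_Z3]
  simp only [Nat.card_prod]
  ring

/-- coordinates of `Z4` -/
def equiv_Z4 : Z4 K ≃ K × K × K × K where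
  toFun x := ((x : GU K).c, (x : GU K).d, (x : GU K).e, (x : GU K).f)
  invFun y := ⟨⟨0, 0, y.1, y.2.1, y.2.2.1, y.2.2.2⟩, ⟨rfl, rfl⟩⟩
  left_inv x := by
    apply Subtype.ext
    obtain ⟨ha, hb⟩ := mem_Z4.1 x.2
    ext
    · exact ha.symm
    · exact hb.symm
    · rfl
    · rfl
    · rfl
    · rfl
  right_inv y := rfl

theorem card_Z4 [Finite K] : Nat.card (Z4 K) = Nat.card K ^ 4 := by
  rw [Nat.card_congr equiv_Z4]
  simp only [Nat.card_prod]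
  ring

/-- coordinates of `Qa` -/
def equiv_Qa : Qa K ≃ K × K × K × K × K where
  toFun x := ((x : GU K).b, (x : GU K).c, (x : GU K).d, (x : GU K).e, (x : GU K).f)
  invFun y := ⟨⟨0, y.1, y.2.1, y.2.2.1, y.2.2.2.1, y.2.2.2.2⟩, rfl⟩
  left_inv x := by
    apply Subtype.ext
    have ha : (x : GU K).a = 0 := x.2
    ext
    · exact ha.symm
    · rfl
    · rfl
    · rfl
    · rfl
    · rfl
  right_inv y := rfl

theorem card_Qa [Finite K] : Nat.card (Qa K) = Nat.card K ^ 5 := by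
  rw [Nat.card_congr equiv_Qa]
  simp only [Nat.card_prod]
  ring

/-- coordinates of `Qb` -/
def equiv_Qb : Qb K ≃ K × K × K × K × K where
  toFun x := ((x : GU K).a, (x : GU K).c, (x : GU K).d, (x : GU K).e, (x : GU K).f)
  invFun y := ⟨⟨y.1, 0, y.2.1, y.2.2.1, y.2.2.2.1, y.2.2.2.2⟩, rfl⟩
  left_inv x := by
    apply Subtype.ext
    have hb : (x : GU K).b = 0 := x.2
    ext
    · rfl
    · exact hb.symm
    · rfl
    · rfl
    · rfl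
    · rfl
  right_inv y := rfl

theorem card_Qb [Finite K] : Nat.card (Qb K) = Nat.card K ^ 5 := by
  rw [Nat.card_congr equiv_Qb]
  simp only [Nat.card_prod]
  ring

/-- relative indices from orders -/
theorem relIndex_eq {G : Type*} [Group G] {A B : Subgroup G} (h : A ≤ B) {m n k : ℕ} (hA : Nat.card A = m)
    (hB : Nat.card B = n) (hk : n = m * k) (hm : 0 < m) : A.relIndex B = k := by
  have h1 : Nat.card A * A.relIndex B = Nat.card B := by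
    rw [← Subgroup.relIndex_bot_left, ← Subgroup.relIndex_bot_left]
    exact Subgroup.relIndex_mul_relIndex _ _ _ bot_le h
  rw [hA, hB, hk] at h1
  exact Nat.eq_of_mul_eq_mul_left hm h1

end Card

end Cfsg.Agent.H103.GT

private theorem dce_a8b311fa31c1 : _root_.True := by
  try have : _root_.True := by simp only [_root_.Cfsg.Agent.H103.GT.x4.eq_1]
  try have : _root_.True := by simp only [_root_.Cfsg.Agent.H103.GT.x2.eq_1]
  try have : _root_.True := by simp only [_root_.Cfsg.Agent.H103.GT.x6.eq_1]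
  try have : _root_.True := by simp only [_root_.Cfsg.Agent.H103.GT.x1.eq_1]
  try have : _root_.True := by simp only [_root_.Cfsg.Agent.H103.GT.x3.eq_1]
  try have : _root_.True := by simp only [_root_.Cfsg.Agent.H103.GT.x5.eq_1]
  exact _root_.True.intro
end

-- part: H710/GT/EFiveC
section
set_option linter.all false
open scoped Cfsg.Agent.FastGrp

/-!
# S5211 (E5c): `p ≥ 5`, essential subgroups containing `Z₃` and not contained in `Q_a`, `Q_b` (helper710)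

* `inv_cent` : `{y ∈ A | [y, B] ≤ N}` is invariant if `A`, `B`, `N` are;
* `stE5c : StE5c`.
-/

set_option autoImplicit false

namespace Cfsg.Agent.H710.GT

open Cfsg Cfsg.Agent.H779.G2 Cfsg.Agent.H756.PU Cfsg.Agent.H103.GT

universe u

/-- `{y ∈ A | [y, B] ≤ N}` is invariant if `A`, `B`, `N` are -/
theorem inv_cent {Ω : Type*} [Group Ω] {E : Subgroup Ω} {Γ : Subgroup (MulAut E)} {A B N M : Subgroup Ω}
    (hA : Inv Γ A) (hB : Inv Γ B) (hN : Inv Γ N)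
    (hM : ∀ y, y ∈ M ↔ y ∈ A ∧ ∀ b ∈ B, y * b * y⁻¹ * b⁻¹ ∈ N) : Inv Γ M := by
  refine ⟨fun y hy => hA.1 ((hM y).1 hy).1, fun γ hγ e he => ?_⟩
  obtain ⟨h1, h2⟩ := (hM _).1 he
  refine (hM _).2 ⟨hA.2 γ hγ e h1, fun b hb => ?_⟩
  have hbE : b ∈ E := hB.1 hb
  have h3 : ((γ⁻¹ ⟨b, hbE⟩ : E) : Ω) ∈ B := hB.2 γ⁻¹ (inv_mem hγ) ⟨b, hbE⟩ hb
  have h4 := h2 _ h3
  have h5 := hN.2 γ hγ (e * (γ⁻¹ ⟨b, hbE⟩) * e⁻¹ * (γ⁻¹ ⟨b, hbE⟩)⁻¹) h4
  have h6 : γ (γ⁻¹ (⟨b, hbE⟩ : E)) = ⟨b, hbE⟩ := MulAut.apply_inv_self E γ ⟨b, hbE⟩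
  rw [map_mul, map_mul, map_mul, map_inv, map_inv, h6] at h5
  exact h5

theorem inv_self {Ω : Type*} [Group Ω] {E : Subgroup Ω} (Γ : Subgroup (MulAut E)) : Inv Γ E :=
  ⟨le_rfl, fun γ _ e _ => (γ e).2⟩

theorem inv_bot {Ω : Type*} [Group Ω] {E : Subgroup Ω} (Γ : Subgroup (MulAut E)) : Inv Γ (⊥ : Subgroup Ω) := by
  refine ⟨bot_le, fun γ _ e he => ?_⟩
  rw [Subgroup.mem_bot] at he ⊢
  have h1 : e = 1 := Subtype.ext he
  rw [h1, map_one]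
  rfl

theorem cm_one {Ω : Type*} [Group Ω] {x y : Ω} : x * y * x⁻¹ * y⁻¹ ∈ (⊥ : Subgroup Ω) ↔ x * y = y * x := by
  rw [Subgroup.mem_bot, mul_inv_eq_one, mul_inv_eq_iff_eq_mul]

variable {K : Type u} [Field K]

theorem ne_zero_of {p n m : ℕ} (h : HypG K p n) (hm : 0 < m) (hmp : m < p) : (m : K) ≠ 0 := by
  intro h0
  have := h.char
  have h1 := (CharP.cast_eq_zero_iff K p m).1 h0
  exact absurd (Nat.le_of_dvd hm h1) (by omega)

/-- an element with both coordinates nonzero -/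
theorem exists_both {E : Subgroup (GU K)} (hb : ¬ E ≤ Qb K) (ha : ¬ E ≤ Qa K) :
    ∃ x ∈ E, x.a ≠ 0 ∧ x.b ≠ 0 := by
  obtain ⟨y, hy, hya⟩ := SetLike.not_le_iff_exists.1 ha
  obtain ⟨z, hz, hzb⟩ := SetLike.not_le_iff_exists.1 hb
  have hya' : y.a ≠ 0 := hya
  have hzb' : z.b ≠ 0 := hzb
  by_cases h1 : y.b = 0
  · by_cases h2 : z.a = 0
    · refine ⟨y * z, mul_mem hy hz, ?_, ?_⟩
      · rw [GU.mul_a, h2, add_zero]; exact hya'
      · rw [GU.mul_b, h1, zero_add]; exact hzb'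
    · exact ⟨z, hz, h2, hzb'⟩
  · exact ⟨y, hy, hya', h1⟩

/-- (E5c) `p ≥ 5`, `Z₃ ≤ E ≰ Q_a, Q_b` -/
theorem stE5c : StE5c.{u} := by
  intro K _ p n hG h5 E Γ hE hZ3 hb ha
  have h2 : (2 : K) ≠ 0 := by simpa using ne_zero_of hG (m := 2) (by norm_num) (by omega)
  have h3 : (3 : K) ≠ 0 := by simpa using ne_zero_of hG (m := 3) (by norm_num) (by omega)
  obtain ⟨x, hx, xa, xb⟩ := exists_both hb ha
  have iE := inv_self Γ (E := E)
  -- the centre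
  have i1 : Inv Γ (Z1 K) := by
    refine inv_cent iE iE (inv_bot Γ) fun y => ⟨fun hy => ?_, fun hy => ?_⟩
    · exact ⟨hZ3 (Z1_le_Z3 hy), fun b _ => cm_one.2 (comm_Z1 b hy).symm⟩
    · obtain ⟨hyE, hc⟩ := hy
      have hy3 : y ∈ Z3 K := (cent_Z3 h3).1 fun z hz => cm_one.1 (hc z (hZ3 hz))
      exact mem_Z1_of_comm h2 h3 xa xb (Z3_le_Z4 hy3) (cm_one.1 (hc x hx)).symm
  -- the second centre
  have i2 : Inv Γ (Z2 K) := by
    refine inv_cent iE iE i1 fun y => ⟨fun hy => ?_, fun hy => ?_⟩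
    · exact ⟨hZ3 (Z2_le_Z3 hy), fun b _ => com_Z2_top y hy b trivial⟩
    · obtain ⟨hyE, hc⟩ := hy
      have e1 := mem_Z1.1 (hc _ (hZ3 (x4_mem 1)))
      have e2 := mem_Z1.1 (hc x hx)
      rw [cm_a, cm_b, cm_c, cm_d, cm_e] at e1 e2
      obtain ⟨-, -, -, -, e3⟩ := e1
      simp only [x4] at e3
      have ya : y.a = 0 := by
        apply mul_left_cancel₀ h3
        linear_combination -e3
      obtain ⟨-, -, f1, f2, f3⟩ := e2
      rw [ya] at f1 f2 f3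
      have yb : y.b = 0 := by
        apply mul_left_cancel₀ xa
        linear_combination f1
      rw [yb] at f2 f3
      have yc : y.c = 0 := by
        apply mul_left_cancel₀ (mul_ne_zero h2 xa)
        linear_combination f2
      rw [yc] at f3
      have yd : y.d = 0 := by
        apply mul_left_cancel₀ (mul_ne_zero h3 xa)
        linear_combination f3
      exact ⟨ya, yb, yc, yd⟩
  -- `E ∩ Q_b`
  have ib : Inv Γ (E ⊓ Qb K) := by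
    refine inv_cent iE i2 (inv_bot Γ) fun y => ⟨fun hy => ?_, fun hy => ?_⟩
    · exact ⟨hy.1, fun b hb' => cm_one.2 (comm_Qb_Z2 hy.2 hb')⟩
    · exact ⟨hy.1, cent_Z2.1 fun z hz => cm_one.1 (hy.2 z hz)⟩
  -- `Z₃`
  have i3 : Inv Γ (Z3 K) := by
    refine inv_cent ib iE i2 fun y => ⟨fun hy => ?_, fun hy => ?_⟩
    · exact ⟨⟨hZ3 hy, Z3_le_Qb hy⟩, fun b _ => com_Z3_top y hy b trivial⟩
    · obtain ⟨⟨hyE, hyb⟩, hc⟩ := hy
      have yb : y.b = 0 := hyb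
      have e2 := mem_Z2.1 (hc x hx)
      rw [cm_a, cm_b, cm_c, cm_d, yb] at e2
      obtain ⟨-, -, f1, f2⟩ := e2
      have ya : y.a = 0 := by
        apply mul_left_cancel₀ xb
        linear_combination -f1
      rw [ya] at f2
      have yc : y.c = 0 := by
        apply mul_left_cancel₀ (mul_ne_zero h2 xa)
        linear_combination f2
      exact ⟨ya, yb, yc⟩
  have h4 : Z4 K ≤ E := by
    refine H732.PU.stChain hE (Z2 K) (Z3 K) (Z3 K) i2 i3 i3 Z2_le_Z3 le_rfl (Z4 K) le_top ?_ ?_ ?_ ?_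
    · exact fun y hy e _ => com_Z4_top y hy e trivial
    · exact fun y hy e _ => com_Z4_top y hy e trivial
    · exact fun y _ e he => com_top_Z3 y trivial e he
    · exact fun y hy m hm => comm_Qb_Z2 (Z4_le_Qb hy) hm
  have h6 : Qb K ≤ E := by
    refine H732.PU.stChain hE (Z2 K) (Z3 K) (E ⊓ Qb K) i2 i3 ib Z2_le_Z3 (le_inf hZ3 Z3_le_Qb) (Qb K) le_top
      ?_ ?_ ?_ ?_
    · intro y _ e _
      have h7 : y * e * y⁻¹ * e⁻¹ ∈ Z4 K := com_top_top y trivial e trivial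
      exact ⟨h4 h7, Z4_le_Qb h7⟩
    · exact fun y hy e he => com_Qb y hy e he.2
    · exact fun y hy e he => com_Qb_Z3 y hy e he
    · exact fun y hy m hm => comm_Qb_Z2 hy hm
  refine ⟨h6, ?_⟩
  rwa [inf_eq_right.2 h6] at ib

end Cfsg.Agent.H710.GT
end
end
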